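import Groth.Agent.RingPO.Recognize
import Groth.Agent.RingPO.Glue
import Groth.Agent.RingPO.Props
import Mathlib

set_option autoImplicit false
set_option backward.isDefEq.respectTransparency false
universe u
open CategoryTheory CategoryTheory.Limits AlgebraicGeometry TopologicalSpace Opposite

attribute [-instance] CategoryTheory.catToReflQuiver

namespace Groth.Agent.PinchPO

abbrev PS : Type (u+1) := PresheafedSpace.{_, _, u} CommRingCat.{u}

theorem presheaf_map_map (Z : PS.{u}) {A B C : (Opens Z.carrier)ᵒᵖ} (f : A ⟶ B) (g : B ⟶ C) (h : A ⟶ C)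
    (t : Z.presheaf.obj A) : Z.presheaf.map g (Z.presheaf.map f t) = Z.presheaf.map h t := by
  rw [← CommRingCat.comp_apply, ← Functor.map_comp]
  rfl

/-- Sections of a colimit of a span of ringed spaces are compatible pairs of sections. -/
theorem colimit_sections {Z X Y : PS.{u}} (i : Z ⟶ X) (j : Z ⟶ Y) (U : Opens (pushout i j).carrier) :
    (∀ s s' : (pushout i j).presheaf.obj (op U),
      (pushout.inl i j).c.app (op U) s = (pushout.inl i j).c.app (op U) s' →
      (pushout.inr i j).c.app (op U) s = (pushout.inr i j).c.app (op U) s' → s = s') ∧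
    ∀ (x : X.presheaf.obj (op ((Opens.map (pushout.inl i j).base).obj U)))
      (y : Y.presheaf.obj (op ((Opens.map (pushout.inr i j).base).obj U)))
      (he : (Opens.map i.base).obj ((Opens.map (pushout.inl i j).base).obj U) =
        (Opens.map j.base).obj ((Opens.map (pushout.inr i j).base).obj U)),
      i.c.app (op ((Opens.map (pushout.inl i j).base).obj U)) x =
        Z.presheaf.map (eqToHom he).op (j.c.app (op ((Opens.map (pushout.inr i j).base).obj U)) y) →
      ∃ s, (pushout.inl i j).c.app (op U) s = x ∧ (pushout.inr i j).c.app (op U) s = y := by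
  let F := span i j
  let e := PresheafedSpace.colimitPresheafObjIsoComponentwiseLimit F U
  have hπ : ∀ k, e.hom ≫ limit.π _ (op k) = (colimit.ι F k).c.app (op U) := fun k =>
    PresheafedSpace.colimitPresheafObjIsoComponentwiseLimit_hom_π F U k
  have hz : colimit.ι F WalkingSpan.zero = i ≫ colimit.ι F WalkingSpan.left :=
    (colimit.w F WalkingSpan.Hom.fst).symm
  refine ⟨fun s s' h1 h2 => ?_, fun x y he hxy => ?_⟩
  · apply (ConcreteCategory.bijective_of_isIso e.hom).1
    apply Concrete.limit_ext
    rintro ⟨(_ | _ | _)⟩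
    · have key : ∀ t : (pushout i j).presheaf.obj (op U), limit.π (PresheafedSpace.componentwiseDiagram F U) (op WalkingSpan.zero) (e.hom t) =
          (PresheafedSpace.componentwiseDiagram F U).map (WalkingSpan.Hom.fst).op
            (limit.π (PresheafedSpace.componentwiseDiagram F U) (op WalkingSpan.left) (e.hom t)) := fun t =>
        (ConcreteCategory.congr_hom (limit.w (PresheafedSpace.componentwiseDiagram F U) (WalkingSpan.Hom.fst).op) (e.hom t)).symm
      refine (key s).trans (Eq.trans ?_ (key s').symm)
      refine congrArg _ ?_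
      refine (ConcreteCategory.congr_hom (hπ _) s).trans (Eq.trans h1 (ConcreteCategory.congr_hom (hπ _) s').symm)
    · exact (ConcreteCategory.congr_hom (hπ _) s).trans (Eq.trans h1 (ConcreteCategory.congr_hom (hπ _) s').symm)
    · exact (ConcreteCategory.congr_hom (hπ _) s).trans (Eq.trans h2 (ConcreteCategory.congr_hom (hπ _) s').symm)
  · let G := PresheafedSpace.componentwiseDiagram F U ⋙ forget CommRingCat
    let fam : ∀ k, G.obj k := fun k => match k with
      | ⟨some WalkingPair.left⟩ => x
      | ⟨some WalkingPair.right⟩ => y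
      | ⟨none⟩ => (PresheafedSpace.componentwiseDiagram F U).map (WalkingSpan.Hom.fst).op x
    have hsec : fam ∈ G.sections := by
      intro k k' φ
      obtain ⟨k⟩ := k
      obtain ⟨k'⟩ := k'
      obtain ⟨φ, rfl⟩ : ∃ ψ : k' ⟶ k, φ = ψ.op := ⟨φ.unop, rfl⟩
      change WidePushoutShape.Hom k' k at φ
      cases φ with
      | id => exact ConcreteCategory.congr_hom ((PresheafedSpace.componentwiseDiagram F U).map_id _) _
      | init w =>
        cases w
        · rfl
        · show (PresheafedSpace.componentwiseDiagram F U).map (WalkingSpan.Hom.snd).op y =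
            (PresheafedSpace.componentwiseDiagram F U).map (WalkingSpan.Hom.fst).op x
          show Z.presheaf.map _ (j.c.app _ y) = Z.presheaf.map _ (i.c.app _ x)
          refine Eq.trans ?_ (congrArg _ hxy).symm
          exact (presheaf_map_map Z _ _ _ _).symm
    let L := isLimitOfPreserves (forget CommRingCat.{u}) (limit.isLimit (PresheafedSpace.componentwiseDiagram F U))
    obtain ⟨s₀, hs₀⟩ : ∃ s₀ : ↑(limit (PresheafedSpace.componentwiseDiagram F U)),
        ∀ k, limit.π (PresheafedSpace.componentwiseDiagram F U) k s₀ = fam k :=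
      ⟨(Types.isLimitEquivSections L).symm ⟨fam, hsec⟩, fun k =>
        Types.isLimitEquivSections_symm_apply L ⟨fam, hsec⟩ k⟩
    refine ⟨e.inv s₀, ?_, ?_⟩
    · refine (ConcreteCategory.congr_hom (hπ WalkingSpan.left) (e.inv s₀)).symm.trans ?_
      rw [CommRingCat.comp_apply, Iso.inv_hom_id_apply]
      exact hs₀ (op WalkingSpan.left)
    · refine (ConcreteCategory.congr_hom (hπ WalkingSpan.right) (e.inv s₀)).symm.trans ?_
      rw [CommRingCat.comp_apply, Iso.inv_hom_id_apply]
      exact hs₀ (op WalkingSpan.right)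

theorem isPushout_sections {Z X Y P : PS.{u}} {i : Z ⟶ X} {j : Z ⟶ Y} {a : X ⟶ P} {b : Y ⟶ P}
    (h : IsPushout i j a b) (U : Opens P.carrier) :
    (∀ s s' : P.presheaf.obj (op U), a.c.app (op U) s = a.c.app (op U) s' →
      b.c.app (op U) s = b.c.app (op U) s' → s = s') ∧
    ∀ (x : X.presheaf.obj (op ((Opens.map a.base).obj U))) (y : Y.presheaf.obj (op ((Opens.map b.base).obj U)))
      (he : (Opens.map i.base).obj ((Opens.map a.base).obj U) = (Opens.map j.base).obj ((Opens.map b.base).obj U)),
      i.c.app (op ((Opens.map a.base).obj U)) x =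
        Z.presheaf.map (eqToHom he).op (j.c.app (op ((Opens.map b.base).obj U)) y) →
      ∃ s, a.c.app (op U) s = x ∧ b.c.app (op U) s = y := by
  obtain ⟨g, hg, rfl, rfl⟩ : ∃ g : pushout i j ⟶ P, IsIso g ∧ pushout.inl i j ≫ g = a ∧ pushout.inr i j ≫ g = b :=
    ⟨h.isoPushout.inv, inferInstance, h.inl_isoPushout_inv, h.inr_isoPushout_inv⟩
  haveI := hg
  haveI : IsIso g.c := inferInstance
  haveI : IsIso (g.c.app (op U)) := NatIso.isIso_app_of_isIso g.c (op U)
  have hbij : Function.Bijective (g.c.app (op U)) := ConcreteCategory.bijective_of_isIso _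
  obtain ⟨h1, h2⟩ := colimit_sections i j ((Opens.map g.base).obj U)
  refine ⟨fun s s' e1 e2 => hbij.1 (h1 _ _ e1 e2), fun x y he hxy => ?_⟩
  obtain ⟨s₁, e1, e2⟩ := h2 x y he hxy
  obtain ⟨s, rfl⟩ := hbij.2 s₁
  exact ⟨s, e1, e2⟩

set_option maxHeartbeats 1000000 in
/-- A square of schemes with affine legs which is a pushout of ringed spaces is a pushout of schemes. -/
theorem isPushout_of_ringedSpace {Z X Y P : Scheme.{u}} {i : Z ⟶ X} {j : Z ⟶ Y} {a : X ⟶ P} {b : Y ⟶ P}
    [IsClosedImmersion i] [IsAffineHom a] [IsAffineHom b]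
    (h : IsPushout ((Scheme.forgetToLocallyRingedSpace ⋙ LocallyRingedSpace.forgetToSheafedSpace).map i)
      ((Scheme.forgetToLocallyRingedSpace ⋙ LocallyRingedSpace.forgetToSheafedSpace).map j)
      ((Scheme.forgetToLocallyRingedSpace ⋙ LocallyRingedSpace.forgetToSheafedSpace).map a)
      ((Scheme.forgetToLocallyRingedSpace ⋙ LocallyRingedSpace.forgetToSheafedSpace).map b)) :
    IsPushout i j a b := by
  have hw : i ≫ a = j ≫ b :=
    (Scheme.forgetToLocallyRingedSpace ⋙ LocallyRingedSpace.forgetToSheafedSpace).map_injective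
      (by rw [Functor.map_comp, Functor.map_comp]; exact h.w)
  have h' := h.map SheafedSpace.forgetToPresheafedSpace
  refine RingPO.isPushout_of_models hw (κ := P.affineOpens) (fun U => ?_) (fun x => ?_)
  · let c : RingPO.Chart i j :=
      ⟨a ⁻¹ᵁ U.1, b ⁻¹ᵁ U.1, U.2.preimage a, U.2.preimage b, by
        rw [← Scheme.Hom.comp_preimage, ← Scheme.Hom.comp_preimage, hw]⟩
    have hinj := (isPushout_sections h' U.1).1
    have hex := (isPushout_sections h' U.1).2
    have eα : a.appLE U.1 c.U le_rfl = a.app U.1 := (Scheme.Hom.app_eq_appLE a).symm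
    have eβ : b.appLE U.1 c.V le_rfl = b.app U.1 := (Scheme.Hom.app_eq_appLE b).symm
    have ep : i.appLE c.U (i ⁻¹ᵁ c.U) le_rfl = i.app c.U := (Scheme.Hom.app_eq_appLE i).symm
    exact
      { A := Γ(Z, i ⁻¹ᵁ c.U), A' := Γ(X, c.U), B := Γ(Y, c.V), C := Γ(P, U.1)
        p := c.p, q := c.q
        α := (a.appLE U.1 c.U le_rfl).hom
        β := (b.appLE U.1 c.V le_rfl).hom
        h :=
          { surj := c.isFibreProd.surj
            comm := fun z => by
              have e1 : a.appLE U.1 c.U le_rfl ≫ i.appLE c.U (i ⁻¹ᵁ c.U) le_rfl =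
                  b.appLE U.1 c.V le_rfl ≫ j.appLE c.V (i ⁻¹ᵁ c.U) c.eq.le := by
                rw [Scheme.Hom.appLE_comp_appLE, Scheme.Hom.appLE_comp_appLE]
                simp only [hw]
              exact ConcreteCategory.congr_hom e1 z
            ext := fun z z' e1 e2 => by
              rw [eα] at e1
              rw [eβ] at e2
              exact hinj z z' e1 e2
            exists_of_eq := fun y x hxy => by
              obtain ⟨s, e1, e2⟩ := hex x y c.eq (by
                simp only [RingPO.Chart.p, RingPO.Chart.q] at hxy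
                rw [ep] at hxy
                exact hxy)
              refine ⟨s, ?_, ?_⟩
              · rw [eα]; exact e1
              · rw [eβ]; exact e2 }
        φ := U.2.fromSpec
        u := c.hU.fromSpec
        v := c.hV.fromSpec
        w := (c.hU.preimage i).fromSpec
        hw₁ := (c.hU.SpecMap_appLE_fromSpec i (c.hU.preimage i) le_rfl).symm
        hw₂ := (c.hV.SpecMap_appLE_fromSpec j (c.hU.preimage i) c.eq.le).symm
        hu := RingPO.isPullback_chart (c.hU.preimage i |> fun _ => (U.2.SpecMap_appLE_fromSpec a c.hU le_rfl).symm)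
          (by erw [IsAffineOpen.range_fromSpec, IsAffineOpen.range_fromSpec]; rfl)
        hv := RingPO.isPullback_chart ((U.2.SpecMap_appLE_fromSpec b c.hV le_rfl).symm)
          (by erw [IsAffineOpen.range_fromSpec, IsAffineOpen.range_fromSpec]; rfl) }
  · obtain ⟨U, hU, hx, -⟩ := exists_isAffineOpen_mem_and_subset (x := x) (U := (⊤ : P.Opens)) (by simp)
    exact ⟨⟨U, hU⟩, show x ∈ Set.range hU.fromSpec by rw [hU.range_fromSpec]; exact hx⟩

end Groth.Agent.PinchPO
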