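import Groth.Agent.RingPO.Sep
import Groth.Agent.RingPO.Glue
import Groth.Agent.RingPO.Props
import Mathlib

set_option autoImplicit false
set_option backward.isDefEq.respectTransparency false
universe u
open CategoryTheory CategoryTheory.Limits AlgebraicGeometry

attribute [-instance] CategoryTheory.catToReflQuiver

namespace Groth.Agent.PinchPO

variable {X Y T Z : Scheme.{u}} {f : X ⟶ Y} {t : T ⟶ Y} {ξ : Z ⟶ T} {ι : Z ⟶ X}

/-- The standing hypothesis gives compatible affine charts. -/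
theorem charts [IsAffineHom t] (hsq : ι ≫ f = ξ ≫ t)
    (hstd : ∀ y : Y, ∃ U : Y.Opens, IsAffineOpen U ∧ y ∈ U ∧ ∃ V : X.Opens, IsAffineOpen V ∧
      V ≤ f ⁻¹ᵁ U ∧ ∀ z : Z, (ξ ≫ t).base z ∈ U → ι.base z ∈ V) (y : T) :
    ∃ c : RingPO.Chart ι ξ, y ∈ c.V := by
  obtain ⟨U, hU, hy, V, hV, hVU, hz⟩ := hstd (t y)
  refine ⟨⟨V, t ⁻¹ᵁ U, hV, hU.preimage t, le_antisymm (fun z hz' => ?_) (fun z hz' => hz z hz')⟩, hy⟩
  have h1 : f (ι z) ∈ U := hVU hz'
  show t (ξ z) ∈ U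
  rwa [← Scheme.Hom.comp_apply, ← hsq, Scheme.Hom.comp_apply]

variable {P : Scheme.{u}} {a : X ⟶ P} {b : T ⟶ P}

theorem quasiCompact_desc [IsClosedImmersion ι] (hP : IsPushout ι ξ a b)
    (hc : ∀ y : T, ∃ c : RingPO.Chart ι ξ, y ∈ c.V) (p : P ⟶ Y) [QuasiCompact (a ≫ p)] [QuasiCompact (b ≫ p)] :
    QuasiCompact p := by
  rw [quasiCompact_iff]
  intro U hU hUc
  have he : p ⁻¹' U = a '' ((a ≫ p) ⁻¹' U) ∪ b '' ((b ≫ p) ⁻¹' U) := by
    refine Set.Subset.antisymm (fun x hx => ?_) ?_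
    · rcases RingPO.exists_preimage_point hP hc x with ⟨y, rfl⟩ | ⟨y, rfl⟩
      · exact Or.inl ⟨y, hx, rfl⟩
      · exact Or.inr ⟨y, hx, rfl⟩
    · rintro _ (⟨y, hy, rfl⟩ | ⟨y, hy, rfl⟩) <;> exact hy
  rw [he]
  exact ((QuasiCompact.isCompact_preimage (f := a ≫ p) _ hU hUc).image a.continuous).union
    ((QuasiCompact.isCompact_preimage (f := b ≫ p) _ hU hUc).image b.continuous)

theorem universallyClosed_desc [IsClosedImmersion ι] (hP : IsPushout ι ξ a b)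
    (hc : ∀ y : T, ∃ c : RingPO.Chart ι ξ, y ∈ c.V) (p : P ⟶ Y) [IsProper (a ≫ p)] [IsProper (b ≫ p)] :
    UniversallyClosed p := by
  haveI : Surjective (coprod.desc a b) := ⟨fun x => by
    rcases RingPO.exists_preimage_point hP hc x with ⟨y, rfl⟩ | ⟨y, rfl⟩
    · exact ⟨coprodMk _ _ (.inl y), by rw [coprodMk_inl, ← Scheme.Hom.comp_apply, coprod.inl_desc]⟩
    · exact ⟨coprodMk _ _ (.inr y), by rw [coprodMk_inr, ← Scheme.Hom.comp_apply, coprod.inr_desc]⟩⟩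
  have h : coprod.desc a b ≫ p = coprod.map (a ≫ p) (b ≫ p) ≫ coprod.desc (𝟙 Y) (𝟙 Y) := by
    ext <;> simp
  haveI : IsProper (coprod.map (a ≫ p) (b ≫ p)) :=
    IsZariskiLocalAtTarget.coprodMap (P := @IsProper) _ _ inferInstance inferInstance
  haveI : UniversallyClosed (coprod.desc a b ≫ p) := by
    rw [h]
    infer_instance
  exact UniversallyClosed.of_comp_surjective (coprod.desc a b) p

end Groth.Agent.PinchPO
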