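import Groth.Agent.PinchPO.RS
import Groth.Agent.RingPO.BaseChange
import Groth.Agent.RingPO.Sep
import Mathlib

set_option autoImplicit false
set_option backward.isDefEq.respectTransparency false
universe u
open CategoryTheory CategoryTheory.Limits AlgebraicGeometry TopologicalSpace Opposite

attribute [-instance] CategoryTheory.catToReflQuiver

namespace Groth.Agent.PinchPO

/-- Sections over every open are compatible pairs of sections. -/
def SecFib {Z X Y P : PS.{u}} (i : Z ⟶ X) (j : Z ⟶ Y) (a : X ⟶ P) (b : Y ⟶ P) : Prop :=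
  ∀ U : Opens P.carrier,
    (∀ s s' : P.presheaf.obj (op U), a.c.app (op U) s = a.c.app (op U) s' →
      b.c.app (op U) s = b.c.app (op U) s' → s = s') ∧
    ∀ (x : X.presheaf.obj (op ((Opens.map a.base).obj U))) (y : Y.presheaf.obj (op ((Opens.map b.base).obj U)))
      (he : (Opens.map i.base).obj ((Opens.map a.base).obj U) = (Opens.map j.base).obj ((Opens.map b.base).obj U)),
      i.c.app (op ((Opens.map a.base).obj U)) x =
        Z.presheaf.map (eqToHom he).op (j.c.app (op ((Opens.map b.base).obj U)) y) →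
      ∃ s, a.c.app (op U) s = x ∧ b.c.app (op U) s = y

theorem bijective_app_of_secFib {Z X Y P Q : PS.{u}} {i : Z ⟶ X} {j : Z ⟶ Y} {a₀ : X ⟶ Q} {b₀ : Y ⟶ Q}
    (d : Q ⟶ P) (w : i ≫ a₀ = j ≫ b₀) (h₀ : SecFib i j a₀ b₀) (h₁ : SecFib i j (a₀ ≫ d) (b₀ ≫ d))
    (U : Opens P.carrier) : Function.Bijective (d.c.app (op U)) := by
  refine ⟨fun s s' hs => (h₁ U).1 s s' ?_ ?_, fun t => ?_⟩
  · show a₀.c.app _ (d.c.app (op U) s) = a₀.c.app _ (d.c.app (op U) s')
    rw [hs]
  · show b₀.c.app _ (d.c.app (op U) s) = b₀.c.app _ (d.c.app (op U) s')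
    rw [hs]
  · have he : (Opens.map i.base).obj ((Opens.map (a₀ ≫ d).base).obj U) =
        (Opens.map j.base).obj ((Opens.map (b₀ ≫ d).base).obj U) :=
      congrArg (fun m : Z ⟶ Q => (Opens.map m.base).obj ((Opens.map d.base).obj U)) w
    obtain ⟨s, hs1, hs2⟩ := (h₁ U).2 (a₀.c.app (op ((Opens.map d.base).obj U)) t)
      (b₀.c.app (op ((Opens.map d.base).obj U)) t) he
      ((ConcreteCategory.congr_hom (PresheafedSpace.congr_app w (op ((Opens.map d.base).obj U))) t).trans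
        (congrArg (fun φ => Z.presheaf.map φ (j.c.app _ (b₀.c.app (op ((Opens.map d.base).obj U)) t))) (Subsingleton.elim _ _)))
    exact ⟨s, (h₀ _).1 _ _ hs1 hs2⟩

variable {Z X Y P : Scheme.{u}} {i : Z ⟶ X} {j : Z ⟶ Y} {a : X ⟶ P} {b : Y ⟶ P}

theorem eq_preimage (w : i ≫ a = j ≫ b) (U : P.Opens) : i ⁻¹ᵁ a ⁻¹ᵁ U = j ⁻¹ᵁ b ⁻¹ᵁ U := by
  rw [← Scheme.Hom.comp_preimage, ← Scheme.Hom.comp_preimage, w]

variable [IsClosedImmersion i] [IsAffineHom a] [IsAffineHom b]

theorem sections_ext (h : IsPushout i j a b) {U : P.Opens} (s s' : Γ(P, U)) (ha : a.app U s = a.app U s')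
    (hb : b.app U s = b.app U s') : s = s' := by
  have hY : ∀ y : Y, ∃ c : RingPO.Chart i j, y ∈ c.V := RingPO.chart_of_affineHom h.w
  let V : {V : P.affineOpens // V.1 ≤ U} → P.Opens := fun V => V.1.1
  refine TopCat.Sheaf.eq_of_locally_eq' (F := P.sheaf) V U (fun V => homOfLE V.2) (fun x hx => ?_) s s' fun V => ?_
  · obtain ⟨W, hW, hxW, hWU⟩ := exists_isAffineOpen_mem_and_subset (U := U) hx
    exact Opens.mem_iSup.2 ⟨⟨⟨W, hW⟩, hWU⟩, hxW⟩
  · have hF := RingPO.isFibreProd_of_affineOpen h hY V.1.2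
    apply hF.ext
    · show a.appLE V.1.1 _ _ (P.presheaf.map (homOfLE V.2).op s) = a.appLE V.1.1 _ _ (P.presheaf.map (homOfLE V.2).op s')
      rw [← CommRingCat.comp_apply, ← CommRingCat.comp_apply, Scheme.Hom.map_appLE, Scheme.Hom.appLE,
        CommRingCat.comp_apply, CommRingCat.comp_apply, ha]
    · show b.appLE V.1.1 _ _ (P.presheaf.map (homOfLE V.2).op s) = b.appLE V.1.1 _ _ (P.presheaf.map (homOfLE V.2).op s')
      rw [← CommRingCat.comp_apply, ← CommRingCat.comp_apply, Scheme.Hom.map_appLE, Scheme.Hom.appLE,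
        CommRingCat.comp_apply, CommRingCat.comp_apply, hb]

theorem app_res {W S : Scheme.{u}} (f : W ⟶ S) {U V : S.Opens} (hVU : V ≤ U) (s : Γ(S, U)) :
    f.app V (S.presheaf.map (homOfLE hVU).op s) = W.presheaf.map (homOfLE (f.preimage_mono hVU)).op (f.app U s) := by
  rw [← CommRingCat.comp_apply, ← CommRingCat.comp_apply]
  exact congrArg (fun m : Γ(S, U) ⟶ Γ(W, f ⁻¹ᵁ V) => m s) (f.naturality (homOfLE hVU).op)

theorem res_res {W : Scheme.{u}} {A B C : W.Opens} (h : B ≤ A) (h' : C ≤ B) (s : Γ(W, A)) :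
    W.presheaf.map (homOfLE h').op (W.presheaf.map (homOfLE h).op s) = W.presheaf.map (homOfLE (h'.trans h)).op s := by
  rw [← CommRingCat.comp_apply, ← Functor.map_comp]
  rfl

theorem sections_exists (h : IsPushout i j a b) {U : P.Opens} (x : Γ(X, a ⁻¹ᵁ U)) (y : Γ(Y, b ⁻¹ᵁ U))
    (hxy : i.app (a ⁻¹ᵁ U) x = j.appLE (b ⁻¹ᵁ U) (i ⁻¹ᵁ a ⁻¹ᵁ U) (eq_preimage h.w U).le y) :
    ∃ s, a.app U s = x ∧ b.app U s = y := by
  have hY : ∀ y : Y, ∃ c : RingPO.Chart i j, y ∈ c.V := RingPO.chart_of_affineHom h.w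
  let I := {V : P.affineOpens // V.1 ≤ U}
  let V : I → P.Opens := fun V => V.1.1
  have key : ∀ V : I, ∃ t : Γ(P, V.1.1), a.app V.1.1 t = X.presheaf.map (homOfLE (a.preimage_mono V.2)).op x ∧
      b.app V.1.1 t = Y.presheaf.map (homOfLE (b.preimage_mono V.2)).op y := fun V => by
    have hF := RingPO.isFibreProd_of_affineOpen h hY V.1.2
    obtain ⟨t, ht1, ht2⟩ := hF.exists_of_eq (Y.presheaf.map (homOfLE (b.preimage_mono V.2)).op y)
      (X.presheaf.map (homOfLE (a.preimage_mono V.2)).op x) (by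
        show i.appLE _ _ _ (X.presheaf.map (homOfLE (a.preimage_mono V.2)).op x) =
          j.appLE _ _ _ (Y.presheaf.map (homOfLE (b.preimage_mono V.2)).op y)
        rw [← CommRingCat.comp_apply, Scheme.Hom.map_appLE, ← CommRingCat.comp_apply, Scheme.Hom.map_appLE]
        have e1 := congrArg (Z.presheaf.map (homOfLE (i.preimage_mono (a.preimage_mono V.2))).op) hxy
        rw [← CommRingCat.comp_apply, ← CommRingCat.comp_apply, Scheme.Hom.appLE_map] at e1
        exact e1)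
    refine ⟨t, ?_, ?_⟩
    · rw [Scheme.Hom.app_eq_appLE]; exact ht1
    · rw [Scheme.Hom.app_eq_appLE]; exact ht2
  choose t ht1 ht2 using key
  obtain ⟨s, hs, -⟩ := TopCat.Sheaf.existsUnique_gluing' (F := P.sheaf) V U (fun V => homOfLE V.2) (fun p hp => by
    obtain ⟨W, hW, hxW, hWU⟩ := exists_isAffineOpen_mem_and_subset (U := U) hp
    exact Opens.mem_iSup.2 ⟨⟨⟨W, hW⟩, hWU⟩, hxW⟩) t (fun V₁ V₂ => by
      show P.presheaf.map (homOfLE inf_le_left).op (t V₁) = P.presheaf.map (homOfLE inf_le_right).op (t V₂)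
      apply sections_ext h
      · rw [app_res, app_res, ht1, ht1, res_res, res_res]
      · rw [app_res, app_res, ht2, ht2, res_res, res_res])
  refine ⟨s, ?_, ?_⟩
  · refine TopCat.Sheaf.eq_of_locally_eq' (F := X.sheaf) (fun V : I => a ⁻¹ᵁ V.1.1) (a ⁻¹ᵁ U)
      (fun V => homOfLE (a.preimage_mono V.2)) (fun p hp => ?_) _ _ fun V => ?_
    · obtain ⟨W, hW, hxW, hWU⟩ := exists_isAffineOpen_mem_and_subset (U := U) hp
      exact Opens.mem_iSup.2 ⟨⟨⟨W, hW⟩, hWU⟩, hxW⟩
    · show X.presheaf.map _ (a.app U s) = X.presheaf.map _ x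
      rw [← app_res a V.2]
      exact (congrArg (a.app V.1.1) (hs V)).trans (ht1 V)
  · refine TopCat.Sheaf.eq_of_locally_eq' (F := Y.sheaf) (fun V : I => b ⁻¹ᵁ V.1.1) (b ⁻¹ᵁ U)
      (fun V => homOfLE (b.preimage_mono V.2)) (fun p hp => ?_) _ _ fun V => ?_
    · obtain ⟨W, hW, hxW, hWU⟩ := exists_isAffineOpen_mem_and_subset (U := U) hp
      exact Opens.mem_iSup.2 ⟨⟨⟨W, hW⟩, hWU⟩, hxW⟩
    · show Y.presheaf.map _ (b.app U s) = Y.presheaf.map _ y
      rw [← app_res b V.2]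
      exact (congrArg (b.app V.1.1) (hs V)).trans (ht2 V)

theorem secFib_scheme (h : IsPushout i j a b) :
    SecFib (Z := Z.toPresheafedSpace) (X := X.toPresheafedSpace) (Y := Y.toPresheafedSpace) (P := P.toPresheafedSpace)
      i.toPshHom j.toPshHom a.toPshHom b.toPshHom :=
  fun U => ⟨fun s s' => sections_ext h s s', fun x y he hxy => sections_exists h x y hxy⟩

theorem exists_spec_point {W : Scheme.{u}} {V : W.Opens} (hV : IsAffineOpen V) {w : W} (hw : w ∈ V) :
    ∃ p : Spec Γ(W, V), hV.fromSpec p = w := by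
  rw [← Set.mem_range, hV.range_fromSpec]
  exact hw

theorem fib_inl (h : IsPushout i j a b) {x x' : X} (he : a x = a x') :
    x = x' ∨ ∃ z z' : Z, i z = x ∧ i z' = x' ∧ j z = j z' := by
  have hY : ∀ y : Y, ∃ c : RingPO.Chart i j, y ∈ c.V := RingPO.chart_of_affineHom h.w
  obtain ⟨U, hU, hxU, -⟩ := exists_isAffineOpen_mem_and_subset (x := a x) (U := (⊤ : P.Opens)) (by simp)
  have hF := RingPO.isFibreProd_of_affineOpen h hY hU
  set c := RingPO.chartOver h hU
  obtain ⟨p, rfl⟩ := exists_spec_point c.hU (show x ∈ c.U from hxU)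
  obtain ⟨p', rfl⟩ := exists_spec_point c.hU (show x' ∈ c.U from (show a x' ∈ U from he ▸ hxU))
  have hpp : PrimeSpectrum.comap (a.appLE U (a ⁻¹ᵁ U) le_rfl).hom p =
      PrimeSpectrum.comap (a.appLE U (a ⁻¹ᵁ U) le_rfl).hom p' := by
    apply hU.fromSpec.isOpenEmbedding.injective
    refine (congr($(hU.SpecMap_appLE_fromSpec a c.hU le_rfl) p)).trans (he.trans ?_)
    exact (congr($(hU.SpecMap_appLE_fromSpec a c.hU le_rfl) p')).symm
  rcases hF.fib_or hpp with rfl | ⟨q, q', rfl, rfl, hq⟩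
  · exact Or.inl rfl
  · refine Or.inr ⟨(c.hU.preimage i).fromSpec q, (c.hU.preimage i).fromSpec q', (c.fromSpec_comap_p q).symm,
      (c.fromSpec_comap_p q').symm, ?_⟩
    show j _ = j _
    rw [← c.fromSpec_comap_q, ← c.fromSpec_comap_q, hq]

theorem fib_inl_inr (h : IsPushout i j a b) {x : X} {y : Y} (he : a x = b y) :
    ∃ z : Z, i z = x ∧ j z = y := by
  have hY : ∀ y : Y, ∃ c : RingPO.Chart i j, y ∈ c.V := RingPO.chart_of_affineHom h.w
  obtain ⟨U, hU, hxU, -⟩ := exists_isAffineOpen_mem_and_subset (x := a x) (U := (⊤ : P.Opens)) (by simp)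
  have hF := RingPO.isFibreProd_of_affineOpen h hY hU
  set c := RingPO.chartOver h hU
  obtain ⟨p, rfl⟩ := exists_spec_point c.hU (show x ∈ c.U from hxU)
  obtain ⟨q, rfl⟩ := exists_spec_point c.hV (show y ∈ c.V from (show b y ∈ U from he ▸ hxU))
  have hpq : PrimeSpectrum.comap (a.appLE U (a ⁻¹ᵁ U) le_rfl).hom p =
      PrimeSpectrum.comap (b.appLE U (b ⁻¹ᵁ U) le_rfl).hom q := by
    apply hU.fromSpec.isOpenEmbedding.injective
    refine (congr($(hU.SpecMap_appLE_fromSpec a c.hU le_rfl) p)).trans (he.trans ?_)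
    exact (congr($(hU.SpecMap_appLE_fromSpec b c.hV le_rfl) q)).symm
  obtain ⟨r, rfl, rfl⟩ := hF.exists_of_comap_eq hpq
  exact ⟨(c.hU.preimage i).fromSpec r, (c.fromSpec_comap_p r).symm, (c.fromSpec_comap_q r).symm⟩

/-- A set of points of a pushout is open when its preimages in both pieces are. -/
theorem isOpen_of_preimages (h : IsPushout i j a b) (W : Set P) (hA : IsOpen (a ⁻¹' W)) (hB : IsOpen (b ⁻¹' W)) :
    IsOpen W := by
  have hY : ∀ y : Y, ∃ c : RingPO.Chart i j, y ∈ c.V := RingPO.chart_of_affineHom h.w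
  rw [isOpen_iff_forall_mem_open]
  intro w hw
  obtain ⟨U, hU, hwU, -⟩ := exists_isAffineOpen_mem_and_subset (x := w) (U := (⊤ : P.Opens)) (by simp)
  have hF := RingPO.isFibreProd_of_affineOpen h hY hU
  set c := RingPO.chartOver h hU
  obtain ⟨p, rfl⟩ := exists_spec_point hU hwU
  have hea : ∀ q, a (c.hU.fromSpec q) = hU.fromSpec (PrimeSpectrum.comap (a.appLE U (a ⁻¹ᵁ U) le_rfl).hom q) :=
    fun q => (congr($(hU.SpecMap_appLE_fromSpec a c.hU le_rfl) q)).symm
  have heb : ∀ q, b (c.hV.fromSpec q) = hU.fromSpec (PrimeSpectrum.comap (b.appLE U (b ⁻¹ᵁ U) le_rfl).hom q) :=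
    fun q => (congr($(hU.SpecMap_appLE_fromSpec b c.hV le_rfl) q)).symm
  obtain ⟨e, hpe, he1, he2⟩ := hF.exists_basic
    (U' := c.hU.fromSpec ⁻¹' (a ⁻¹' W)) (V' := c.hV.fromSpec ⁻¹' (b ⁻¹' W))
    (hA.preimage c.hU.fromSpec.continuous) (hB.preimage c.hV.fromSpec.continuous) (fun x => by
      show a (c.hU.fromSpec (PrimeSpectrum.comap c.p x)) ∈ W ↔ b (c.hV.fromSpec (PrimeSpectrum.comap c.q x)) ∈ W
      rw [c.fromSpec_comap_p, c.fromSpec_comap_q]
      exact iff_of_eq (congrArg (· ∈ W) congr($(h.w) _)))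
    (P := p)
    (fun q hq => by show a (c.hU.fromSpec q) ∈ W; rw [hea, hq]; exact hw)
    (fun q hq => by show b (c.hV.fromSpec q) ∈ W; rw [heb, hq]; exact hw)
  let D : Set ↥(Spec Γ(P, U)) := {r | r ∈ PrimeSpectrum.basicOpen e}
  have hD : IsOpen D := (PrimeSpectrum.basicOpen e).isOpen
  refine ⟨hU.fromSpec '' D, ?_, hU.fromSpec.isOpenEmbedding.isOpenMap D hD, ⟨p, hpe, rfl⟩⟩
  rintro _ ⟨r, hr, rfl⟩
  rcases hF.exists_preimage r with ⟨q, rfl⟩ | ⟨q, rfl⟩
  · rw [← heb]; exact he2 hr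
  · rw [← hea]; exact he1 hr

local notation "RS" => Scheme.forgetToLocallyRingedSpace ⋙ LocallyRingedSpace.forgetToSheafedSpace

/-- A pushout of schemes along a closed immersion with affine legs is a pushout of ringed spaces. -/
theorem isPushout_ringedSpace (h : IsPushout i j a b) :
    IsPushout ((RS).map i) ((RS).map j) ((RS).map a) ((RS).map b) := by
  have w : (RS).map i ≫ (RS).map a = (RS).map j ≫ (RS).map b := by
    rw [← Functor.map_comp, ← Functor.map_comp, h.w]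
  let Q := pushout ((RS).map i) ((RS).map j)
  let d : Q ⟶ (RS).obj P := pushout.desc ((RS).map a) ((RS).map b) w
  have hQ := (IsPushout.of_hasPushout ((RS).map i) ((RS).map j))
  have hQ' := hQ.map SheafedSpace.forgetToPresheafedSpace
  have hT := (hQ.map (SheafedSpace.forget CommRingCat.{u})).map (forget TopCat.{u})
  have hda : pushout.inl _ _ ≫ d = (RS).map a := pushout.inl_desc _ _ _
  have hdb : pushout.inr _ _ ≫ d = (RS).map b := pushout.inr_desc _ _ _
  let d' := SheafedSpace.forgetToPresheafedSpace.map d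
  let qa : ↑X → ↑↑Q.toPresheafedSpace := (pushout.inl ((RS).map i) ((RS).map j)).hom.base
  let qb : ↑Y → ↑↑Q.toPresheafedSpace := (pushout.inr ((RS).map i) ((RS).map j)).hom.base
  have hqw : ∀ z : Z, qa (i z) = qb (j z) := fun z =>
    congr($(pushout.condition (f := (RS).map i) (g := (RS).map j)).hom.base z)
  have hba : ∀ x, d'.base (qa x) = a x := fun x => congr(($hda).hom.base x)
  have hbb : ∀ y, d'.base (qb y) = b y := fun y => congr(($hdb).hom.base y)
  have hcov : ∀ p : ↑↑Q.toPresheafedSpace, (∃ x, qa x = p) ∨ ∃ y, qb y = p := fun p => by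
    rcases Types.eq_or_eq_of_isPushout hT p with ⟨x, hx⟩ | ⟨y, hy⟩
    · exact Or.inl ⟨x, hx⟩
    · exact Or.inr ⟨y, hy⟩
  have hY : ∀ y : Y, ∃ c : RingPO.Chart i j, y ∈ c.V := RingPO.chart_of_affineHom h.w
  haveI := RingPO.isClosedImmersion_inr h hY
  have hbij : Function.Bijective d'.base := by
    refine ⟨fun p p' hpp => ?_, fun p => ?_⟩
    · rcases hcov p with ⟨x, rfl⟩ | ⟨y, rfl⟩ <;> rcases hcov p' with ⟨x', rfl⟩ | ⟨y', rfl⟩
      · rw [hba, hba] at hpp
        rcases fib_inl h hpp with rfl | ⟨z, z', rfl, rfl, hz⟩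
        · rfl
        · rw [hqw, hqw, hz]
      · rw [hba, hbb] at hpp
        obtain ⟨z, rfl, rfl⟩ := fib_inl_inr h hpp
        exact hqw z
      · rw [hbb, hba] at hpp
        obtain ⟨z, rfl, rfl⟩ := fib_inl_inr h hpp.symm
        exact (hqw z).symm
      · rw [hbb, hbb] at hpp
        rw [b.isClosedEmbedding.injective hpp]
    · rcases RingPO.exists_preimage_point h hY p with ⟨x, rfl⟩ | ⟨y, rfl⟩
      · exact ⟨qa x, hba x⟩
      · exact ⟨qb y, hbb y⟩
  have hopen : IsOpenMap d'.base := fun W hW => by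
    refine isOpen_of_preimages h _ ?_ ?_
    · have e : a ⁻¹' (d'.base '' W) = qa ⁻¹' W := by
        refine Set.ext fun x => ?_
        exact ⟨fun ⟨p, hp, hpx⟩ => by
          show qa x ∈ W
          rwa [← hbij.1 (hpx.trans (hba x).symm)], fun hx => ⟨qa x, hx, hba x⟩⟩
      rw [e]
      exact hW.preimage (pushout.inl ((RS).map i) ((RS).map j)).hom.base.hom.continuous
    · have e : b ⁻¹' (d'.base '' W) = qb ⁻¹' W := by
        refine Set.ext fun y => ?_
        exact ⟨fun ⟨p, hp, hpy⟩ => by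
          show qb y ∈ W
          rwa [← hbij.1 (hpy.trans (hbb y).symm)], fun hy => ⟨qb y, hy, hbb y⟩⟩
      rw [e]
      exact hW.preimage (pushout.inr ((RS).map i) ((RS).map j)).hom.base.hom.continuous
  have h₀ : SecFib _ _ _ _ := fun U => isPushout_sections hQ' U
  have h₁ : SecFib (SheafedSpace.forgetToPresheafedSpace.map ((RS).map i))
      (SheafedSpace.forgetToPresheafedSpace.map ((RS).map j))
      (SheafedSpace.forgetToPresheafedSpace.map (pushout.inl _ _) ≫ d')
      (SheafedSpace.forgetToPresheafedSpace.map (pushout.inr _ _) ≫ d') := by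
    rw [← Functor.map_comp, ← Functor.map_comp, hda, hdb]
    exact secFib_scheme h
  haveI : ∀ U, IsIso (d'.c.app U) := fun U =>
    (ConcreteCategory.isIso_iff_bijective _).2 (bijective_app_of_secFib d' hQ'.w h₀ h₁ U.unop)
  haveI : IsIso d'.c := NatIso.isIso_of_isIso_app _
  haveI : IsIso d'.base := (TopCat.isoOfHomeo ((Equiv.ofBijective _ hbij).toHomeomorphOfContinuousOpen
    d'.base.hom.continuous hopen)).isIso_hom
  haveI : IsIso d' := PresheafedSpace.isIso_of_components d'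
  haveI : IsIso d := isIso_of_reflects_iso d SheafedSpace.forgetToPresheafedSpace
  exact hQ.of_iso (Iso.refl _) (Iso.refl _) (Iso.refl _) (asIso d) (by simp) (by simp) (by simp; exact hda) (by simp; exact hdb)

end Groth.Agent.PinchPO
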